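import Cfsg.Agent.Lib.ExtPrim.EndField

/-!
An abelian group normalised by a group transitive on the non-zero vectors up to sign generates a field.
-/

set_option autoImplicit false

namespace Cfsg.Agent.Lib.Kantor

open Cfsg.Agent.Lib.ExtPrim.EndField

variable {A : Type*} [Group A] {V : Type*} [AddCommGroup V] [Finite V] (ρ : A →* AddMonoid.End V)

/-- The cyclic submodule generated by a vector. -/
def cycSub (v : V) : AddSubgroup V :=
  AddMonoidHom.range
    ({ toFun := fun r => (r : AddMonoid.End V) v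
       map_zero' := rfl
       map_add' := fun _ _ => rfl } : ↥(genRing ρ) →+ V)

omit [Finite V] in
theorem mem_cycSub {v x : V} : x ∈ cycSub ρ v ↔ ∃ r ∈ genRing ρ, r v = x :=
  ⟨fun ⟨r, h⟩ => ⟨r, r.2, h⟩, fun ⟨r, hr, h⟩ => ⟨⟨r, hr⟩, h⟩⟩

theorem isField_of_halfTransitive (hcomm : ∀ a b : A, a * b = b * a) [Nontrivial V]
    (hH : ∀ v w : V, v ≠ 0 → w ≠ 0 → ∃ T : V ≃+ V,
      (∀ r ∈ genRing ρ, ∃ r' ∈ genRing ρ, ∀ x, T (r x) = r' (T x)) ∧ (T v = w ∨ T v = -w)) :
    IsField (genRing ρ) := by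
  classical
  have hle : ∀ v w : V, v ≠ 0 → w ≠ 0 → Nat.card (cycSub ρ v) ≤ Nat.card (cycSub ρ w) := by
    intro v w hv hw
    obtain ⟨T, hT, hTv⟩ := hH v w hv hw
    have hmem : ∀ x ∈ cycSub ρ v, T x ∈ cycSub ρ w := by
      intro x hx
      obtain ⟨r, hr, rfl⟩ := (mem_cycSub ρ).1 hx
      obtain ⟨r', hr', h⟩ := hT r hr
      rw [h]
      rcases hTv with e | e <;> rw [e]
      · exact (mem_cycSub ρ).2 ⟨r', hr', rfl⟩
      · rw [map_neg]
        exact AddSubgroup.neg_mem _ ((mem_cycSub ρ).2 ⟨r', hr', rfl⟩)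
    exact Nat.card_le_card_of_injective (fun x => (⟨T x.1, hmem x.1 x.2⟩ : cycSub ρ w))
      fun a b h => Subtype.ext (T.injective (congrArg Subtype.val h))
  have hsub : ∀ v u : V, v ≠ 0 → u ≠ 0 → u ∈ cycSub ρ v → cycSub ρ u = cycSub ρ v := by
    intro v u hv hu h
    obtain ⟨s, hs, rfl⟩ := (mem_cycSub ρ).1 h
    refine AddSubgroup.eq_of_le_of_card_ge (fun x hx => ?_) (hle v _ hv hu)
    obtain ⟨r, hr, rfl⟩ := (mem_cycSub ρ).1 hx
    exact (mem_cycSub ρ).2 ⟨r * s, Subring.mul_mem _ hr hs, rfl⟩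
  have hcomm' := genRing_comm ρ hcomm
  have hinj : ∀ r ∈ genRing ρ, r ≠ 0 → Function.Injective r := by
    intro r hr hr0
    obtain ⟨w, hw⟩ : ∃ w, r w ≠ 0 := by
      by_contra hc
      push Not at hc
      exact hr0 (AddMonoidHom.ext hc)
    have hw0 : w ≠ 0 := fun h => hw (h ▸ map_zero (r : V →+ V))
    refine (injective_iff_map_eq_zero _).2 fun v hv => ?_
    by_contra hv0
    have hdis : ∀ u, u ∈ cycSub ρ v → u ∈ cycSub ρ w → u = 0 := by
      intro u huv huw
      by_contra hu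
      have : w ∈ cycSub ρ v := by
        rw [← hsub v u hv0 hu huv, hsub w u hw0 hu huw]
        exact (mem_cycSub ρ).2 ⟨1, Subring.one_mem _, rfl⟩
      obtain ⟨s, hs, hsw⟩ := (mem_cycSub ρ).1 this
      refine hw ?_
      rw [← hsw]
      show (r * s) v = 0
      rw [hcomm' r hr s hs]
      show s (r v) = 0
      rw [hv, map_zero]
    have hu0 : v + w ≠ 0 := fun h => by
      refine hw ?_
      rw [← neg_eq_of_add_eq_zero_right h, map_neg, hv, neg_zero]
    have hwd : ∀ s ∈ genRing ρ, ∀ t ∈ genRing ρ, s (v + w) = t (v + w) → s v = t v := by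
      intro s hs t ht h
      rw [map_add, map_add] at h
      have h1 : s v - t v = t w - s w :=
        sub_eq_sub_iff_add_eq_add.2 (h.trans (add_comm _ _))
      have h2 : s v - t v ∈ cycSub ρ v :=
        (cycSub ρ v).sub_mem ((mem_cycSub ρ).2 ⟨s, hs, rfl⟩) ((mem_cycSub ρ).2 ⟨t, ht, rfl⟩)
      have h3 : s v - t v ∈ cycSub ρ w := h1 ▸
        (cycSub ρ w).sub_mem ((mem_cycSub ρ).2 ⟨t, ht, rfl⟩) ((mem_cycSub ρ).2 ⟨s, hs, rfl⟩)
      exact sub_eq_zero.1 (hdis _ h2 h3)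
    choose sec hsec hsec' using fun x : cycSub ρ (v + w) => (mem_cycSub ρ).1 x.2
    let g : cycSub ρ (v + w) → cycSub ρ v :=
      fun x => ⟨sec x v, (mem_cycSub ρ).2 ⟨sec x, hsec x, rfl⟩⟩
    have hg : ∀ s (hs : s ∈ genRing ρ),
        g ⟨s (v + w), (mem_cycSub ρ).2 ⟨s, hs, rfl⟩⟩ = ⟨s v, (mem_cycSub ρ).2 ⟨s, hs, rfl⟩⟩ :=
      fun s hs => Subtype.ext (hwd _ (hsec _) _ hs (hsec' _))
    have hsurj : Function.Surjective g := by
      rintro ⟨y, hy⟩
      obtain ⟨s, hs, rfl⟩ := (mem_cycSub ρ).1 hy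
      exact ⟨_, hg s hs⟩
    have hbij : Function.Bijective g := (Nat.bijective_iff_surjective_and_card g).2
      ⟨hsurj, le_antisymm (hle _ _ hu0 hv0) (hle _ _ hv0 hu0)⟩
    have h0 := hg 0 (Subring.zero_mem _)
    have h1 := hg r hr
    have h2 : r (v + w) = (0 : AddMonoid.End V) (v + w) :=
      congrArg Subtype.val (hbij.1 (h1.trans (Eq.trans (Subtype.ext hv) h0.symm)))
    rw [map_add, hv, zero_add] at h2
    exact hw h2
  haveI : Finite (AddMonoid.End V) :=
    Finite.of_injective (fun f => (f : V → V)) DFunLike.coe_injective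
  letI : CommRing (genRing ρ) :=
    { (genRing ρ).toRing with mul_comm := fun r s => Subtype.ext (hcomm' r r.2 s s.2) }
  haveI : NoZeroDivisors (genRing ρ) := by
    refine ⟨fun {r s} h => or_iff_not_imp_left.2 fun hr => Subtype.ext (AddMonoidHom.ext fun x => ?_)⟩
    have hi := hinj _ r.2 fun e => hr (Subtype.ext e)
    have h' : ((r * s : genRing ρ) : AddMonoid.End V) x = (0 : AddMonoid.End V) x := by rw [h]; rfl
    exact hi (h'.trans (map_zero (r : AddMonoid.End V)).symm)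
  haveI : Nontrivial (genRing ρ) := by
    refine ⟨⟨1, 0, fun h => ?_⟩⟩
    obtain ⟨a, ha⟩ := exists_ne (0 : V)
    exact ha (congrArg (fun r : genRing ρ => (r : AddMonoid.End V) a) h)
  haveI : IsDomain (genRing ρ) := NoZeroDivisors.to_isDomain _
  letI := Fintype.ofFinite (genRing ρ)
  exact Finite.isField_of_domain (genRing ρ)

end Cfsg.Agent.Lib.Kantor
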