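import Mathlib

/-!
A group of class two with scalar centre cannot have all vectors eigenvectors of non-scalar elements,
in odd characteristic and for an odd prime exponent modulo the centre.
-/

set_option autoImplicit false

namespace Cfsg.Agent.Lib.Kantor

open Module

variable {K : Type*} [Field K] {V : Type*} [AddCommGroup V] [Module K V]
  {N : Type*} [Group N] (π : N →* Module.End K V)

/-- A vector which is an eigenvector of a non-central element. -/
def Good (A : Subgroup N) (v : V) : Prop := ∃ x, x ∉ A ∧ ∃ β : K, π x v = β • v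

/-- Eigenspaces permuted cyclically by an operator are at least `r` in number. -/
theorem finrank_eigen_le [FiniteDimensional K V] {r : ℕ} {η : K} (hη : IsPrimitiveRoot η r)
    (x y : Module.End K V) (hy : Function.Injective y) (hxy : ∀ v, x (y v) = η • y (x v))
    {β : K} (hβ : β ≠ 0) :
    r * finrank K (Module.End.eigenspace x β) ≤ finrank K V := by
  classical
  let E : Fin r → Submodule K V := fun i => Module.End.eigenspace x (β * η ^ (i : ℕ))
  have hinj : Function.Injective fun i : Fin r => β * η ^ (i : ℕ) := fun i j h =>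
    Fin.ext (hη.pow_inj i.2 j.2 (mul_left_cancel₀ hβ h))
  have hind : iSupIndep E := (Module.End.eigenspaces_iSupIndep x).comp hinj
  have hle : ∀ (n : ℕ), finrank K (Module.End.eigenspace x β) ≤
      finrank K (Module.End.eigenspace x (β * η ^ n)) := by
    intro n
    induction n with
    | zero => rw [pow_zero, mul_one]
    | succ n ih =>
      refine ih.trans ?_
      let f : Module.End.eigenspace x (β * η ^ n) →ₗ[K] Module.End.eigenspace x (β * η ^ (n + 1)) :=
        LinearMap.restrict y fun v hv => by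
          rw [Module.End.mem_eigenspace_iff] at hv ⊢
          rw [hxy, hv, map_smul, smul_smul, pow_succ]
          congr 1; ring
      exact LinearMap.finrank_le_finrank_of_injective (f := f)
        fun a b h => Subtype.ext (hy (congrArg Subtype.val h))
  have h1 := LinearMap.finrank_le_finrank_of_injective hind.dfinsupp_lsum_injective
  refine le_trans ?_ h1
  show _ ≤ finrank K (DirectSum (Fin r) fun i => E i)
  rw [Module.finrank_directSum]
  calc r * finrank K (Module.End.eigenspace x β)
      = ∑ _i : Fin r, finrank K (Module.End.eigenspace x β) := by simp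
    _ ≤ ∑ i : Fin r, finrank K (E i) := Finset.sum_le_sum fun i _ => hle i

theorem forty_nine_pow (d : ℕ) : d ^ 9 < 49 ^ d := by
  induction d with
  | zero => norm_num
  | succ d ih =>
    by_cases hd : 2 ≤ d
    · have h : (d + 1) ^ 9 ≤ 49 * d ^ 9 := by
        calc (d + 1) ^ 9 ≤ (3 * d / 2) ^ 9 := Nat.pow_le_pow_left (by omega) 9
          _ ≤ 49 * d ^ 9 := by
              have h2 : (3 * d / 2) ^ 9 * 2 ^ 9 ≤ 3 ^ 9 * d ^ 9 := by
                rw [← mul_pow, ← mul_pow]
                exact Nat.pow_le_pow_left (Nat.div_mul_le_self _ _) 9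
              norm_num at h2 ⊢
              omega
      rw [pow_succ 49 d]
      calc (d + 1) ^ 9 ≤ 49 * d ^ 9 := h
        _ < 49 * 49 ^ d := Nat.mul_lt_mul_of_pos_left ih (by norm_num)
        _ = 49 ^ d * 49 := mul_comm _ _
    · interval_cases d <;> norm_num

theorem numeric_false {X q d r T : ℕ} (hX : X = q ^ d) (hq : 7 ≤ q) (hr : 3 ≤ r) (hrd : r ≤ d)
    (hT : T ^ r ≤ X) (hT1 : 1 ≤ T) (hcount : X - 1 ≤ d * d * r * (T - 1)) : False := by
  have h1 : X - 1 ≤ d ^ 3 * (T - 1) := hcount.trans (by
    refine Nat.mul_le_mul_right _ ?_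
    calc d * d * r ≤ d * d * d := Nat.mul_le_mul_left _ hrd
      _ = d ^ 3 := by ring)
  have hX1 : 1 ≤ X := hX ▸ Nat.one_le_pow _ _ (by omega)
  have hd3 : 1 ≤ d ^ 3 := Nat.one_le_pow _ _ (by omega)
  have h2 : X ≤ d ^ 3 * T := by
    have h3 : d ^ 3 * (T - 1) + d ^ 3 = d ^ 3 * T := by
      obtain ⟨t, rfl⟩ := Nat.exists_eq_add_of_le hT1
      rw [Nat.add_sub_cancel_left]; ring
    omega
  have h4 : T ^ 3 ≤ X := (Nat.pow_le_pow_right hT1 hr).trans hT
  have h5 : X ^ 2 * X ≤ d ^ 9 * X := by
    calc X ^ 2 * X = X ^ 3 := by ring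
      _ ≤ (d ^ 3 * T) ^ 3 := Nat.pow_le_pow_left h2 3
      _ = d ^ 9 * T ^ 3 := by ring
      _ ≤ d ^ 9 * X := Nat.mul_le_mul_left _ h4
  have h6 : X ^ 2 ≤ d ^ 9 := Nat.le_of_mul_le_mul_right h5 hX1
  have h7 : 49 ^ d ≤ X ^ 2 := by
    rw [hX, ← pow_mul, mul_comm d 2, pow_mul]
    exact Nat.pow_le_pow_left (Nat.pow_le_pow_left hq 2) d
  exact absurd (forty_nine_pow d) (not_lt.2 (h7.trans h6))

theorem no_class_two [Finite K] [Finite V] [Finite N] [Nontrivial V] (hinj : Function.Injective π)
    (A : Subgroup N) {r : ℕ} (hr : r.Prime) (hr2 : r ≠ 2) (hK : Odd (Nat.card K))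
    (hA : ∀ a ∈ A, ∃ c : K, ∀ v, π a v = c • v)
    (hcomm : ∀ x y : N, x * y * x⁻¹ * y⁻¹ ∈ A) (hpow : ∀ x : N, x ^ r ∈ A)
    (hcent : Subgroup.center N ≤ A) (hAN : A ≠ ⊤)
    (hgood : ∀ v w : V, v ≠ 0 → w ≠ 0 → Good π A v → Good π A w) : False := by
  classical
  haveI := Fact.mk hr
  have hbij : ∀ x : N, Function.Injective (π x) := fun x a b h => by
    have h' := congrArg (π x⁻¹) h
    rwa [← Module.End.mul_apply, ← Module.End.mul_apply, ← map_mul, inv_mul_cancel, map_one] at h'
  obtain ⟨v₀, hv₀⟩ := exists_ne (0 : V)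
  have huniq : ∀ {a b : K} (w : V), w ≠ 0 → a • w = b • w → a = b := fun w hw h =>
    smul_left_injective K hw h
  have happ : ∀ (a b : N) (v : V), π (a * b) v = π a (π b v) := fun a b v => by
    rw [map_mul, Module.End.mul_apply]
  -- commutator scalars
  have hc : ∀ x y : N, ∃ c : K, ∀ v, π x (π y v) = c • π y (π x v) := by
    intro x y
    obtain ⟨c, hc⟩ := hA _ (hcomm x y)
    refine ⟨c, fun v => ?_⟩
    rw [← happ, ← happ, ← hc, ← happ]
    congr 2; group
  choose c hc using hc
  have hcmul : ∀ x x' y : N, c (x * x') y = c x y * c x' y := by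
    intro x x' y
    refine huniq (π y (π x (π x' v₀))) ?_ ?_
    · exact fun h => hv₀ (hbij x' ((hbij x (((hbij y) (h.trans (map_zero _).symm)).trans
        (map_zero _).symm)).trans (map_zero _).symm))
    · have h1 := hc (x * x') y v₀
      rw [happ, happ, hc x' y, map_smul, hc x y, smul_smul, mul_comm] at h1
      exact h1.symm
  let chi : N → N →* K := fun y =>
    { toFun := fun x => c x y
      map_one' := huniq (π y v₀) (fun h => hv₀ (hbij y (h.trans (map_zero _).symm)))
        (by simpa using (hc 1 y v₀).symm)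
      map_mul' := fun x x' => hcmul x x' y }
  have hsep : ∀ x x' : N, chi x = chi x' → x⁻¹ * x' ∈ A := by
    intro x x' h
    refine hcent (Subgroup.mem_center_iff.2 fun y => hinj (LinearMap.ext fun v => ?_))
    have h1 := hc y x' v
    rw [show c y x' = c y x from (DFunLike.congr_fun h y).symm] at h1
    obtain ⟨u, rfl⟩ : ∃ u, x' = x * u := ⟨x⁻¹ * x', by group⟩
    rw [inv_mul_cancel_left, happ, happ]
    refine hbij x ?_
    rw [happ x u v, happ x u (π y v), hc y x] at h1
    have hne : c y x ≠ 0 := fun h0 => hv₀ (hbij x (hbij y (by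
      rw [hc, h0, zero_smul, map_zero, map_zero])))
    exact smul_right_injective V hne h1
  -- the scalar of an `r`-th power
  choose a ha using fun x : N => hA _ (hpow x)
  have hcr : ∀ x y : N, c x y ^ r = 1 := by
    intro x y
    obtain ⟨e, he⟩ := hA _ (hpow x)
    have h1 : c (x ^ r) y = c x y ^ r := map_pow (chi y) x r
    rw [← h1]
    refine huniq (π y (π (x ^ r) v₀)) (fun h => hv₀ (hbij _ ((hbij y (h.trans (map_zero _).symm)).trans
      (map_zero _).symm))) ?_
    rw [← hc, one_smul, he, he, map_smul]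
  have hapow : ∀ x : N, a x ≠ 0 := fun x h => hv₀ (hbij (x ^ r) (by rw [ha, h, zero_smul, map_zero]))
  have hamul : ∀ x y : N, a (x * y) = a x * a y := by
    intro x y
    have key : ∀ (n : ℕ) (v : V), π ((x * y) ^ n) v = c y x ^ n.choose 2 • π (x ^ n) (π (y ^ n) v) := by
      intro n
      induction n with
      | zero => intro v; simp
      | succ n ih =>
        intro v
        have h1 : π (y ^ n) (π x (π y v)) = c y x ^ n • π x (π (y ^ n) (π y v)) := by
          rw [hc, show c (y ^ n) x = c y x ^ n from map_pow (chi x) y n]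
        rw [pow_succ, happ, ih, happ, h1, map_smul, smul_smul, pow_succ x, pow_succ y, happ, happ,
          Nat.choose_succ_succ, Nat.choose_one_right, pow_add, mul_comm (c y x ^ n)]
    obtain ⟨m, hm⟩ := hr.dvd_choose_self (show (2 : ℕ) ≠ 0 by norm_num)
      (lt_of_le_of_ne hr.two_le (Ne.symm hr2))
    have h1 := key r v₀
    rw [hm, pow_mul, hcr, one_pow, one_smul, ha, ha y, map_smul, ha, smul_smul] at h1
    rw [huniq v₀ hv₀ h1, mul_comm]
  let α : N →* Kˣ :=
    { toFun := fun x => Units.mk0 (a x) (hapow x)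
      map_one' := Units.ext (huniq v₀ hv₀ (by
        rw [Units.val_mk0, ← ha, one_pow, map_one, Units.val_one, one_smul]; rfl))
      map_mul' := fun x y => Units.ext (hamul x y) }
  -- two non-commuting elements
  obtain ⟨x₀, y₀, hxy₀⟩ : ∃ x y : N, x * y ≠ y * x := by
    by_contra h
    push Not at h
    exact hAN (eq_top_iff.2 fun x _ => hcent (Subgroup.mem_center_iff.2 fun y => h y x))
  have hω : c x₀ y₀ ≠ 1 := fun h => hxy₀ (hinj (LinearMap.ext fun v => by
    rw [happ, happ, hc, h, one_smul]))
  have hωr : IsPrimitiveRoot (c x₀ y₀) r := by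
    rw [← orderOf_eq_prime (hcr x₀ y₀) hω]
    exact IsPrimitiveRoot.orderOf _
  have hrK : r ∣ Nat.card K - 1 := by
    have hne : c x₀ y₀ ≠ 0 := hωr.ne_zero hr.ne_zero
    have h1 : orderOf (Units.mk0 _ hne) = r := by
      rw [← orderOf_units, Units.val_mk0, ← hωr.eq_orderOf]
    rw [← Nat.card_units, ← h1]
    exact orderOf_dvd_natCard _
  -- an element with an eigenvalue
  have hnotA : ∀ x y : N, x * y ≠ y * x → x ∉ A := by
    intro x y h hx
    obtain ⟨e, he⟩ := hA x hx
    exact h (hinj (LinearMap.ext fun v => by rw [happ, happ, he, he, map_smul]))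
  obtain ⟨x, hxA, γ, hγ⟩ : ∃ x, x ∉ A ∧ ∃ γ : Kˣ, γ ^ r = α x := by
    obtain ⟨g, hg⟩ := IsCyclic.exists_generator (α := Kˣ)
    obtain ⟨i, hi⟩ := Subgroup.mem_zpowers_iff.1 (hg (α x₀))
    obtain ⟨j, hj⟩ := Subgroup.mem_zpowers_iff.1 (hg (α y₀))
    by_cases hi0 : (i : ZMod r) = 0
    · obtain ⟨k, rfl⟩ := (ZMod.intCast_zmod_eq_zero_iff_dvd i r).1 hi0
      exact ⟨x₀, hnotA _ _ hxy₀, g ^ k, by
        rw [← hi, ← zpow_natCast, ← zpow_mul, mul_comm]⟩
    · set m := (-(j : ZMod r) / i).val with hm
      have h0 : (((m : ℤ) * i + j : ℤ) : ZMod r) = 0 := by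
        push_cast
        rw [hm, ZMod.natCast_val, ZMod.cast_id, div_mul_cancel₀ _ hi0, neg_add_cancel]
      obtain ⟨k, hk⟩ := (ZMod.intCast_zmod_eq_zero_iff_dvd _ r).1 h0
      refine ⟨x₀ ^ m * y₀, hnotA _ x₀ fun h => hxy₀ ?_, g ^ k, ?_⟩
      · have h1 : x₀ ^ m * (y₀ * x₀) = x₀ ^ m * (x₀ * y₀) := by
          rw [← mul_assoc, h, ← mul_assoc, ← mul_assoc, ← pow_succ', pow_succ]
        exact (mul_left_cancel h1).symm
      · rw [map_mul, map_pow, ← hi, ← hj, ← zpow_natCast (g ^ i), ← zpow_mul, ← zpow_add,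
          show i * (m : ℤ) + j = (m : ℤ) * i + j by ring, hk, ← zpow_natCast, ← zpow_mul, mul_comm]
  have hgoodex : ∃ v : V, v ≠ 0 ∧ Good π A v := by
    by_contra hno
    push Not at hno
    have hfac : ∀ β : K, Function.Injective (π x - algebraMap K (Module.End K V) β) := by
      intro β
      refine (injective_iff_map_eq_zero _).2 fun v hv => ?_
      by_contra hv0
      refine hno v hv0 ⟨x, hxA, β, ?_⟩
      rw [LinearMap.sub_apply, Module.algebraMap_end_apply, sub_eq_zero] at hv
      exact hv
    haveI : FiniteDimensional K V := Module.Finite.of_finite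
    have hpoly : ∀ s : Finset K, Function.Injective
        (Polynomial.aeval (π x) (∏ β ∈ s, (Polynomial.X - Polynomial.C β))) := by
      intro s
      induction s using Finset.induction_on with
      | empty =>
        rw [Finset.prod_empty, map_one]
        exact fun _ _ h => h
      | insert b s hb ih =>
        rw [Finset.prod_insert hb, map_mul, map_sub, Polynomial.aeval_X, Polynomial.aeval_C]
        exact (hfac b).comp ih
    have hroot := X_pow_sub_C_eq_prod hωr hr.pos (rfl : (γ : K) ^ r = (γ : K) ^ r)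
    have hprod : ∀ s : Finset ℕ, Function.Injective (Polynomial.aeval (π x)
        (∏ i ∈ s, (Polynomial.X - Polynomial.C (c x₀ y₀ ^ i * (γ : K))))) := by
      intro s
      induction s using Finset.induction_on with
      | empty =>
        rw [Finset.prod_empty, map_one]
        exact fun _ _ h => h
      | insert b s hb ih =>
        rw [Finset.prod_insert hb, map_mul, map_sub, Polynomial.aeval_X, Polynomial.aeval_C]
        exact (hfac _).comp ih
    have h1 := hprod (Finset.range r)
    rw [← hroot, map_sub, map_pow, Polynomial.aeval_X, Polynomial.aeval_C] at h1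
    refine hv₀ (h1 ?_)
    rw [map_zero, LinearMap.sub_apply, Module.algebraMap_end_apply, ← map_pow, ha, sub_eq_zero]
    congr 1
    exact (congrArg Units.val hγ).symm.trans (Units.val_pow_eq_pow_val γ r)
  obtain ⟨v₁, hv₁, hgood₁⟩ := hgoodex
  haveI : FiniteDimensional K V := Module.Finite.of_finite
  -- the cosets are at most `d ^ 2` in number
  haveI : A.Normal := ⟨fun a ha g => by
    have := A.mul_mem (hcomm g a) ha
    rwa [show g * a * g⁻¹ * a⁻¹ * a = g * a * g⁻¹ by group] at this⟩
  letI := Fintype.ofFinite (N ⧸ A)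
  set d := finrank K V with hd
  have hM : Fintype.card (N ⧸ A) ≤ d * d := by
    have hli : LinearIndependent K fun q : N ⧸ A => π q.out := by
      rw [Fintype.linearIndependent_iff]
      intro g hg
      have hchi : Function.Injective fun q : N ⧸ A => chi q.out := fun q q' h => by
        rw [← QuotientGroup.out_eq' q, ← QuotientGroup.out_eq' q', QuotientGroup.eq]
        exact hsep _ _ h
      have hz : ∀ (v : V) (φ : Module.Dual K V) (q : N ⧸ A), g q * φ (π q.out v) = 0 := by
        intro v φ
        refine Fintype.linearIndependent_iff.1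
          ((linearIndependent_monoidHom N K).comp _ hchi) (fun q => g q * φ (π q.out v)) ?_
        funext y
        have h1 := congrArg (fun T : Module.End K V => π y (T ((π y⁻¹) v))) hg
        simp only [LinearMap.sum_apply, map_sum, LinearMap.smul_apply, map_smul,
          LinearMap.zero_apply, map_zero] at h1
        have h3 : ∀ q : N ⧸ A, π y (π q.out (π y⁻¹ v)) = c y q.out • π q.out v := fun q => by
          rw [hc, ← happ y y⁻¹, mul_inv_cancel, map_one]; rfl
        simp only [h3, smul_smul] at h1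
        have h2 := congrArg φ h1
        simp only [map_sum, map_smul, smul_eq_mul, map_zero] at h2
        rw [Finset.sum_apply]
        show ∑ q : N ⧸ A, g q * φ (π q.out v) * c y q.out = 0
        rw [← h2]
        exact Finset.sum_congr rfl fun q _ => by ring
      intro q
      by_contra hq
      refine hv₀ (hbij q.out ?_)
      rw [map_zero, ← Module.forall_dual_apply_eq_zero_iff K]
      intro φ
      exact (mul_eq_zero.1 (hz v₀ φ q)).resolve_left hq
    have := hli.fintype_card_le_finrank
    rwa [Module.finrank_linearMap] at this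
  -- every non-zero vector is an eigenvector of a coset representative
  have heig : ∀ (x : N) (β : K) (v : V), v ≠ 0 → π x v = β • v → β ^ r = a x := by
    intro x β v hv h
    have h1 : ∀ n : ℕ, π (x ^ n) v = β ^ n • v := by
      intro n
      induction n with
      | zero => simp
      | succ n ih => rw [pow_succ', happ, ih, map_smul, h, smul_smul, pow_succ]
    exact huniq v hv ((h1 r).symm.trans (ha x v))
  letI := Fintype.ofFinite V
  letI := Fintype.ofFinite K
  let I : Finset ((N ⧸ A) × K) :=
    ((Finset.univ : Finset (N ⧸ A)).erase 1).biUnion fun q =>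
      ((Polynomial.nthRoots r (a q.out)).toFinset).image fun β => (q, β)
  have hIcard : I.card ≤ d * d * r := by
    refine (Finset.card_biUnion_le_card_mul _ _ r fun q _ => ?_).trans (Nat.mul_le_mul_right r
      ((Finset.card_erase_le).trans (Finset.card_univ.trans_le hM)))
    exact Finset.card_image_le.trans
      ((Multiset.toFinset_card_le _).trans (Polynomial.card_nthRoots _ _))
  let F : (N ⧸ A) × K → Finset V := fun s =>
    (Finset.univ.erase (0 : V)).filter fun v => π s.1.out v = s.2 • v
  have hcover : ∀ v : V, v ≠ 0 → ∃ s ∈ I, v ∈ F s := by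
    intro v hv
    obtain ⟨x, hx, β, hβ⟩ := hgood v₁ v hv₁ hv hgood₁
    obtain ⟨e, he⟩ : ∃ e : K, ∀ w, π x w = e • π (x : N ⧸ A).out w := by
      obtain ⟨b, hb⟩ := QuotientGroup.mk_out_eq_mul A x
      obtain ⟨e, he⟩ := hA _ (A.inv_mem b.2)
      refine ⟨e, fun w => ?_⟩
      rw [hb, happ, ← map_smul, ← he, ← happ ((b : N))⁻¹, inv_mul_cancel, map_one]
      rfl
    have he0 : e ≠ 0 := fun h => hv (hbij x (by rw [he, h, zero_smul, map_zero]))
    have hout : π (x : N ⧸ A).out v = (e⁻¹ * β) • v := by
      rw [mul_smul, ← hβ, he, inv_smul_smul₀ he0]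
    refine ⟨(x, e⁻¹ * β), ?_, Finset.mem_filter.2 ⟨Finset.mem_erase.2 ⟨hv, Finset.mem_univ _⟩, hout⟩⟩
    refine Finset.mem_biUnion.2 ⟨(x : N ⧸ A), Finset.mem_erase.2 ⟨fun h =>
      hx ((QuotientGroup.eq_one_iff x).1 h), Finset.mem_univ _⟩, Finset.mem_image.2 ⟨_, ?_, rfl⟩⟩
    rw [Multiset.mem_toFinset, Polynomial.mem_nthRoots hr.pos]
    exact heig _ _ _ hv hout
  obtain ⟨s₁, hs₁, hv₁s⟩ := hcover v₁ hv₁
  obtain ⟨s, hs, hmax⟩ := I.exists_max_image (fun s => (F s).card) ⟨s₁, hs₁⟩
  have hspos : 1 ≤ (F s).card := (Finset.card_pos.2 ⟨v₁, hv₁s⟩).trans_le (hmax s₁ hs₁)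
  obtain ⟨hsA, hsβ⟩ : s.1.out ∉ A ∧ s.2 ≠ 0 := by
    obtain ⟨v, hv⟩ := Finset.card_pos.1 hspos
    obtain ⟨hv, hv'⟩ := Finset.mem_filter.1 hv
    refine ⟨fun h => ?_, fun h => (Finset.mem_erase.1 hv).1 (hbij s.1.out (by
      rw [hv', h, zero_smul, map_zero]))⟩
    obtain ⟨q, hq, hqs⟩ := Finset.mem_biUnion.1 hs
    obtain ⟨β, -, hβs⟩ := Finset.mem_image.1 hqs
    refine (Finset.mem_erase.1 hq).1 ?_
    rw [← QuotientGroup.out_eq' q, QuotientGroup.eq_one_iff, show q = s.1 from congrArg Prod.fst hβs]
    exact h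
  obtain ⟨y, hy⟩ : ∃ y : N, s.1.out * y ≠ y * s.1.out := by
    by_contra h
    push Not at h
    exact hsA (hcent (Subgroup.mem_center_iff.2 fun y => (h y).symm))
  have hη : c s.1.out y ≠ 1 := fun h => hy (hinj (LinearMap.ext fun v => by
    rw [happ, happ, hc, h, one_smul]))
  have hηr : IsPrimitiveRoot (c s.1.out y) r := by
    rw [← orderOf_eq_prime (hcr _ _) hη]
    exact IsPrimitiveRoot.orderOf _
  have hre := finrank_eigen_le hηr (π s.1.out) (π y) (hbij y) (hc _ _) hsβ
  set E := Module.End.eigenspace (π s.1.out) s.2 with hE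
  have hFE : (F s).card + 1 = Nat.card E := by
    rw [Nat.card_eq_fintype_card, Fintype.card_subtype]
    have e : F s = (Finset.univ.filter fun v => v ∈ E).erase 0 := by
      ext v
      simp [F, hE, and_comm]
    rw [e, Finset.card_erase_add_one (by simp [E.zero_mem])]
  have hEe : 1 ≤ finrank K E := by
    by_contra h
    have h1 : Nat.card E = 1 := by
      rw [Module.natCard_eq_pow_finrank (K := K), show finrank K E = 0 by omega, pow_zero]
    omega
  have hT : Nat.card E ^ r ≤ Nat.card V := by
    rw [Module.natCard_eq_pow_finrank (K := K) (V := V), Module.natCard_eq_pow_finrank (K := K),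
      ← pow_mul, mul_comm]
    exact Nat.pow_le_pow_right Nat.card_pos hre
  have hcount : Nat.card V - 1 ≤ d * d * r * (Nat.card E - 1) := by
    rw [← hFE, Nat.add_sub_cancel, Nat.card_eq_fintype_card, ← Finset.card_univ,
      ← Finset.card_erase_of_mem (Finset.mem_univ (0 : V))]
    refine le_trans (Finset.card_le_card (t := I.biUnion F) fun v hv => ?_) ?_
    · exact Finset.mem_biUnion.2 (hcover v (Finset.mem_erase.1 hv).1)
    · exact (Finset.card_biUnion_le_card_mul _ _ _ hmax).trans (Nat.mul_le_mul_right _ hIcard)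
  have hr3 : 3 ≤ r := by have := hr.two_le; omega
  have hq7 : 7 ≤ Nat.card K := by
    obtain ⟨k, hk⟩ := hK
    have hK1 : 1 < Nat.card K := Finite.one_lt_card
    have h2 : 2 * r ∣ Nat.card K - 1 :=
      Nat.Coprime.mul_dvd_of_dvd_of_dvd ((Nat.coprime_primes Nat.prime_two hr).2 (Ne.symm hr2))
        ⟨k, by omega⟩ hrK
    have := Nat.le_of_dvd (by omega) h2
    omega
  have hrd : r ≤ d := le_trans (Nat.le_mul_of_pos_right r hEe) hre
  exact numeric_false (Module.natCard_eq_pow_finrank (K := K) (V := V)) hq7 hr3 hrd hT Nat.card_pos hcount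

end Cfsg.Agent.Lib.Kantor
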