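import Cfsg.Agent.Lib.Kantor.Field
import Cfsg.Agent.Lib.Kantor.NoClassTwo
import Cfsg.Agent.Lib.Cores.MinNormal

/-!
An odd solvable group of automorphisms of an elementary abelian `p`-group, transitive on the non-zero
vectors up to sign, is semilinear over the field with `p ^ f` elements.
-/

set_option autoImplicit false

namespace Cfsg.Agent.Lib.Kantor

open Cfsg.Agent.Lib.ExtPrim.EndField Module

theorem two_mul_lt_pow_add_one {p k : ℕ} (hp : 2 ≤ p) : 2 * k < p ^ k + 1 := by
  have h2 : 2 * k ≤ 2 ^ k := by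
    induction k with
    | zero => simp
    | succ k ih =>
      rcases Nat.eq_zero_or_pos k with rfl | hk
      · norm_num
      · rw [pow_succ]; omega
  exact Nat.lt_succ_of_le (h2.trans (Nat.pow_le_pow_left hp k))

set_option maxHeartbeats 1000000 in
-- long construction
theorem semilinear_of_halfTransitive {G : Type*} [Group G] [Finite G] [Group.IsSolvable G]
    (hodd : Odd (Nat.card G)) {V : Type*} [AddCommGroup V] [Finite V] [Nontrivial V] (p f : ℕ)
    [Fact p.Prime] (hp2 : p ≠ 2) (hV : Nat.card V = p ^ f) (hexp : ∀ v : V, p • v = 0)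
    (ρ : G →* AddMonoid.End V) (hρ : Function.Injective ρ)
    (htr : ∀ v w : V, v ≠ 0 → w ≠ 0 → ∃ h : G, ρ h v = w ∨ ρ h v = -w) :
    ∃ e : V ≃+ GaloisField p f, ∀ h : G, ∃ (a : (GaloisField p f)ˣ)
      (φ : GaloisField p f ≃+* GaloisField p f), ∀ v, e (ρ h v) = a * φ (e v) := by
  classical
  have hp := (Fact.out : p.Prime)
  have happ : ∀ (a b : G) (v : V), ρ (a * b) v = ρ a (ρ b v) := fun a b v => by rw [map_mul]; rfl
  have hinj : ∀ g : G, Function.Injective (ρ g) := fun g a b h => by
    have h' := congrArg (ρ g⁻¹) h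
    rwa [← happ, ← happ, inv_mul_cancel, map_one] at h'
  -- a maximal abelian normal subgroup
  obtain ⟨A, hA⟩ := (Set.toFinite
    {A : Subgroup G | A.Normal ∧ ∀ a ∈ A, ∀ b ∈ A, a * b = b * a}).exists_maximal
    ⟨⊥, inferInstance, fun a ha b _ => by rw [Subgroup.mem_bot.1 ha]; simp⟩
  haveI hAn : A.Normal := hA.1.1
  have hAc : ∀ a b : A, a * b = b * a := fun a b => Subtype.ext (hA.1.2 a a.2 b b.2)
  let σ : A →* AddMonoid.End V := ρ.comp A.subtype
  let R := genRing σ
  haveI : Finite (AddMonoid.End V) :=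
    Finite.of_injective (fun f => (f : V → V)) DFunLike.coe_injective
  -- the action of `G` on the ring by conjugation
  have hmem : ∀ (h : G) (r : AddMonoid.End V), r ∈ R → ρ h * r * ρ h⁻¹ ∈ R := by
    intro h r hr
    induction hr using Subring.closure_induction with
    | mem x hx =>
      obtain ⟨w, rfl⟩ := hx
      show ρ h * ρ w * ρ h⁻¹ ∈ R
      rw [← map_mul, ← map_mul]
      exact Subring.subset_closure ⟨⟨h * w * h⁻¹, hAn.conj_mem w w.2 h⟩, rfl⟩
    | zero => rw [mul_zero, zero_mul]; exact R.zero_mem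
    | one => rw [mul_one, ← map_mul, mul_inv_cancel, map_one]; exact R.one_mem
    | add x y _ _ hx hy => rw [mul_add, add_mul]; exact R.add_mem hx hy
    | neg x _ hx => rw [mul_neg, neg_mul]; exact R.neg_mem hx
    | mul x y _ _ hx hy =>
      have : ρ h * (x * y) * ρ h⁻¹ = (ρ h * x * ρ h⁻¹) * (ρ h * y * ρ h⁻¹) := by
        simp only [mul_assoc]
        rw [← mul_assoc (ρ h⁻¹) (ρ h), ← map_mul, inv_mul_cancel, map_one, one_mul]
      rw [this]; exact R.mul_mem hx hy
  have hfield : IsField R := by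
    refine isField_of_halfTransitive σ hAc fun v w hv hw => ?_
    obtain ⟨h, hh⟩ := htr v w hv hw
    let T : V ≃+ V :=
      { toFun := fun x => ρ h x
        invFun := fun x => ρ h⁻¹ x
        left_inv := fun x => by show ρ h⁻¹ (ρ h x) = x; rw [← happ, inv_mul_cancel, map_one]; rfl
        right_inv := fun x => by show ρ h (ρ h⁻¹ x) = x; rw [← happ, mul_inv_cancel, map_one]; rfl
        map_add' := fun x y => map_add _ _ _ }
    refine ⟨T, fun r hr => ⟨_, hmem h r hr, fun x => ?_⟩, hh⟩
    show ρ h (r x) = ρ h (r (ρ h⁻¹ (ρ h x)))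
    rw [← happ h⁻¹, inv_mul_cancel, map_one]; rfl
  letI : Field R := hfield.toField
  let c : G → R →+* R := fun h =>
    { toFun := fun r => ⟨ρ h * r * ρ h⁻¹, hmem h r r.2⟩
      map_one' := Subtype.ext (by simp [← map_mul])
      map_mul' := fun a b => Subtype.ext (by
        show ρ h * ((a : AddMonoid.End V) * b) * ρ h⁻¹ = (ρ h * a * ρ h⁻¹) * (ρ h * b * ρ h⁻¹)
        simp only [mul_assoc]
        rw [← mul_assoc (ρ h⁻¹) (ρ h), ← map_mul, inv_mul_cancel, map_one, one_mul])
      map_zero' := Subtype.ext (by simp)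
      map_add' := fun a b => Subtype.ext (by
        show ρ h * ((a : AddMonoid.End V) + b) * ρ h⁻¹ = ρ h * a * ρ h⁻¹ + ρ h * b * ρ h⁻¹
        rw [mul_add, add_mul]) }
  have hc1 : ∀ r, c 1 r = r := fun r => Subtype.ext (by simp [c])
  have hcm : ∀ a b r, c (a * b) r = c a (c b r) := fun a b r => Subtype.ext (by
    simp [c, mul_assoc])
  let θ : G →* RingAut R :=
    { toFun := fun h => RingEquiv.ofRingHom (c h) (c h⁻¹)
        (RingHom.ext fun r => by rw [RingHom.comp_apply, ← hcm, mul_inv_cancel, hc1]; rfl)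
        (RingHom.ext fun r => by rw [RingHom.comp_apply, ← hcm, inv_mul_cancel, hc1]; rfl)
      map_one' := RingEquiv.ext fun r => hc1 r
      map_mul' := fun a b => RingEquiv.ext fun r => hcm a b r }
  have hsemi : ∀ (h : G) (r : R) (v : V), ρ h (r • v) = θ h r • ρ h v := by
    intro h r v
    show ρ h ((r : AddMonoid.End V) v) = ρ h ((r : AddMonoid.End V) (ρ h⁻¹ (ρ h v)))
    rw [← happ h⁻¹, inv_mul_cancel, map_one]; rfl
  have hι : ∀ a : A, ∀ v : V, ρ a v =
      (⟨σ a, Subring.subset_closure ⟨a, rfl⟩⟩ : R) • v := fun a v => rfl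
  have hAker : A ≤ θ.ker := by
    intro a ha
    refine MonoidHom.mem_ker.2 (RingEquiv.ext fun r => Subtype.ext ?_)
    show ρ a * (r : AddMonoid.End V) * ρ a⁻¹ = r
    rw [genRing_comm σ hAc (ρ a) (Subring.subset_closure ⟨⟨a, ha⟩, rfl⟩) r r.2, mul_assoc,
      ← map_mul, mul_inv_cancel, map_one, mul_one]
  -- the field
  haveI : CharP R p := (CharP.charP_iff_prime_eq_zero hp).2 (by
    refine Subtype.ext (AddMonoidHom.ext fun x => ?_)
    show ((p : R) : AddMonoid.End V) x = (0 : AddMonoid.End V) x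
    rw [show ((p : R) : AddMonoid.End V) = (p : AddMonoid.End V) from rfl, AddMonoid.End.natCast_apply,
      hexp]
    rfl)
  letI := Fintype.ofFinite R
  obtain ⟨⟨k, hk⟩, -, hRk⟩ := FiniteField.card R p
  replace hRk : Nat.card R = p ^ k := by rw [Nat.card_eq_fintype_card]; exact hRk
  haveI : FiniteDimensional R V := Module.Finite.of_finite
  set d := finrank R V with hd
  have hVd : Nat.card V = Nat.card R ^ d := Module.natCard_eq_pow_finrank
  have hd1 : 1 ≤ d := Module.finrank_pos
  by_cases hCA : θ.ker ≤ A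
  · -- semilinear
    have hle : θ.ker = A := le_antisymm hCA hAker
    have hd2 : d = 1 := by
      by_contra hne
      obtain ⟨-, k', hk', hG, -⟩ := exists_cyclic_gen R p k hRk θ
      have hAcard : Nat.card A ≤ p ^ k - 1 := by
        let ι : A →* R :=
          { toFun := fun a => ⟨σ a, Subring.subset_closure ⟨a, rfl⟩⟩
            map_one' := Subtype.ext (map_one σ)
            map_mul' := fun a b => Subtype.ext (map_mul σ a b) }
        rw [← hRk, ← Nat.card_units]
        exact Nat.card_le_card_of_injective ι.toHomUnits fun a b h => Subtype.ext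
          (hρ (congrArg Subtype.val (congrArg Units.val h) : σ a = σ b))
      obtain ⟨v₀, hv₀⟩ := exists_ne (0 : V)
      have hsurj : Function.Surjective fun o : Option (G × Bool) =>
          o.elim (0 : V) fun x => if x.2 then ρ x.1 v₀ else -ρ x.1 v₀ := by
        intro w
        by_cases hw : w = 0
        · exact ⟨none, hw.symm⟩
        · obtain ⟨h, hh | hh⟩ := htr v₀ w hv₀ hw
          · exact ⟨some (h, true), hh⟩
          · exact ⟨some (h, false), by simp [hh]⟩
      have h1 := Nat.card_le_card_of_surjective _ hsurj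
      letI := Fintype.ofFinite G
      rw [Nat.card_eq_fintype_card (α := Option (G × Bool)), Fintype.card_option, Fintype.card_prod,
        Fintype.card_bool, ← Nat.card_eq_fintype_card, hG, hle, hVd, hRk] at h1
      have h2 : (p ^ k) ^ 2 ≤ (p ^ k) ^ d :=
        Nat.pow_le_pow_right (Nat.pow_pos hp.pos) (by omega)
      have h3 : k' * Nat.card A ≤ k * (p ^ k - 1) :=
        Nat.mul_le_mul (Nat.le_of_dvd hk hk') hAcard
      have h4 := two_mul_lt_pow_add_one (k := k) hp.two_le
      obtain ⟨X, hX⟩ : ∃ X, p ^ k = X + 1 := ⟨p ^ k - 1, (Nat.sub_add_cancel (Nat.one_le_pow _ _ hp.pos)).symm⟩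
      rw [hX, Nat.add_sub_cancel] at h3
      rw [hX] at h1 h2 h4
      have h5 : (X + 1) ^ 2 = X * X + 2 * X + 1 := by ring
      have h6 : 2 * k * X ≤ (X + 1) * X := Nat.mul_le_mul_right _ (by omega)
      have hX0 : 0 < X := by
        have := Nat.one_lt_pow hk.ne' hp.one_lt
        omega
      nlinarith
    obtain ⟨v₀, hv₀⟩ := exists_ne (0 : V)
    let ev : R →+ V :=
      { toFun := fun r => r • v₀
        map_zero' := zero_smul R v₀
        map_add' := fun a b => add_smul a b v₀ }
    have hev : Function.Bijective ev := (Nat.bijective_iff_injective_and_card _).2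
      ⟨fun a b h => smul_left_injective R hv₀ h, by rw [hVd, hd2, pow_one]⟩
    have hRf : Nat.card R = p ^ f := by rw [← hV, hVd, hd2, pow_one]
    letI := ZMod.algebra R p
    let ψ : R ≃+* GaloisField p f := (GaloisField.algEquivGaloisField p f hRf).toRingEquiv
    let ev' : R ≃+ V := AddEquiv.ofBijective ev hev
    refine ⟨ev'.symm.trans ψ.toAddEquiv, fun h => ?_⟩
    have hne : ev'.symm (ρ h v₀) ≠ 0 := by
      rw [Ne, map_eq_zero_iff _ ev'.symm.injective]
      exact fun e => hv₀ (hinj h (e.trans (map_zero _).symm))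
    refine ⟨Units.mk0 (ψ (ev'.symm (ρ h v₀))) (fun e => hne (ψ.injective (e.trans (map_zero ψ).symm))),
      (ψ.symm.trans (θ h)).trans ψ, fun v => ?_⟩
    obtain ⟨r, rfl⟩ := ev'.surjective v
    show ψ (ev'.symm (ρ h (ev' r))) = ψ (ev'.symm (ρ h v₀)) * ψ (θ h (ψ.symm (ψ (ev'.symm (ev' r)))))
    rw [AddEquiv.symm_apply_apply, RingEquiv.symm_apply_apply, ← map_mul]
    congr 1
    rw [AddEquiv.symm_apply_eq]
    show ρ h (r • v₀) = (ev'.symm (ρ h v₀) * θ h r) • v₀
    rw [hsemi, mul_comm, mul_smul]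
    exact congrArg _ (ev'.apply_symm_apply (ρ h v₀)).symm
  · -- a normal subgroup of class two
    exfalso
    have hne : θ.ker.map (QuotientGroup.mk' A) ≠ ⊥ := by
      intro h
      refine hCA fun x hx => ?_
      have h1 : QuotientGroup.mk' A x ∈ θ.ker.map (QuotientGroup.mk' A) := ⟨x, hx, rfl⟩
      rw [h, Subgroup.mem_bot] at h1
      exact (QuotientGroup.eq_one_iff x).1 h1
    haveI : (θ.ker.map (QuotientGroup.mk' A)).Normal :=
      (inferInstance : θ.ker.Normal).map _ (QuotientGroup.mk'_surjective A)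
    obtain ⟨M, hMn, hMle, hMne, hMmin⟩ := Cores.MinNormal.exists_minimal_le hne
    obtain ⟨hMc, r, hr, hMr⟩ := Cores.MinNormal.elementary_of_solvable hMne hMmin
    set N := M.comap (QuotientGroup.mk' A) with hN
    have hNker : N ≤ θ.ker := fun x hx => by
      obtain ⟨y, hy, hyx⟩ := hMle hx
      have : y⁻¹ * x ∈ A := (QuotientGroup.eq).1 hyx
      simpa using θ.ker.mul_mem hy (hAker this)
    have hAN : A ≤ N := fun a ha => by
      show QuotientGroup.mk' A a ∈ M
      rw [show QuotientGroup.mk' A a = 1 from (QuotientGroup.eq_one_iff a).2 ha]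
      exact one_mem M
    have hlin : ∀ x : N, ∀ (r : R) (v : V), ρ x (r • v) = r • ρ x v := fun x r v => by
      rw [hsemi, MonoidHom.mem_ker.1 (hNker x.2)]; rfl
    let π : N →* Module.End R V :=
      { toFun := fun x =>
          { toFun := fun v => ρ x v
            map_add' := fun a b => map_add _ a b
            map_smul' := hlin x }
        map_one' := LinearMap.ext fun v => by
          show ρ ((1 : N) : G) v = v
          rw [Subgroup.coe_one, map_one]; rfl
        map_mul' := fun a b => LinearMap.ext fun v => happ a b v }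
    have hπ : Function.Injective π := fun a b h =>
      Subtype.ext (hρ (AddMonoidHom.ext fun v => LinearMap.congr_fun h v))
    have hcentA : ∀ a ∈ A, ∀ x ∈ N, a * x = x * a := fun a ha x hx => by
      refine hρ (AddMonoidHom.ext fun v => ?_)
      show ρ (a * x) v = ρ (x * a) v
      rw [happ, happ, hι ⟨a, ha⟩, hι ⟨a, ha⟩]
      exact (hlin ⟨x, hx⟩ _ v).symm
    let Z : Subgroup G := (Subgroup.center N).map N.subtype
    have hAZ : A ≤ Z := fun a ha => ⟨⟨a, hAN ha⟩, Subgroup.mem_center_iff.2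
      fun y => Subtype.ext (hcentA a ha y y.2).symm, rfl⟩
    have hZA : Z ≤ A := hA.2 ⟨inferInstance, by
      rintro _ ⟨a, ha, rfl⟩ _ ⟨b, -, rfl⟩
      exact congrArg Subtype.val (Subgroup.mem_center_iff.1 ha b).symm⟩ hAZ
    have hmk : ∀ x : N, QuotientGroup.mk' A (x : G) ∈ M := fun x => x.2
    have hr2 : r ≠ 2 := by
      rintro rfl
      obtain ⟨m, hm, hm1⟩ := (Subgroup.bot_or_exists_ne_one M).resolve_left hMne
      haveI := Fact.mk Nat.prime_two
      have h1 : 2 ∣ Nat.card (G ⧸ A) := by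
        rw [← orderOf_eq_prime (hMr m hm) hm1]; exact orderOf_dvd_natCard m
      exact (Nat.not_even_iff_odd.2 hodd)
        (even_iff_two_dvd.2 (h1.trans (Subgroup.card_quotient_dvd_card A)))
    have hRodd : Odd (Nat.card R) := hRk ▸ (hp.odd_of_ne_two hp2).pow
    refine no_class_two π hπ (A.subgroupOf N) hr hr2 hRodd (fun a ha => ⟨_, hι ⟨a, ha⟩⟩)
      (fun x y => ?_) (fun x => ?_) ?_ ?_ fun v w hv hw hgv => ?_
    · rw [Subgroup.mem_subgroupOf, Subgroup.coe_mul, Subgroup.coe_mul, Subgroup.coe_mul,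
        Subgroup.coe_inv, Subgroup.coe_inv, ← QuotientGroup.eq_one_iff]
      have h1 := congrArg Subtype.val (mul_comm' (⟨_, hmk x⟩ : M) ⟨_, hmk y⟩)
      simp only [QuotientGroup.mk_mul, QuotientGroup.mk_inv]
      exact mul_inv_eq_one.2 (mul_inv_eq_iff_eq_mul.2 h1)
    · rw [Subgroup.mem_subgroupOf, Subgroup.coe_pow, ← QuotientGroup.eq_one_iff, QuotientGroup.mk_pow]
      exact hMr _ (hmk x)
    · exact fun x hx => hZA ⟨x, hx, rfl⟩
    · intro h
      refine hMne ((Subgroup.eq_bot_iff_forall _).2 fun m hm => ?_)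
      obtain ⟨g, rfl⟩ := QuotientGroup.mk'_surjective A m
      have : (⟨g, hm⟩ : N) ∈ A.subgroupOf N := h ▸ Subgroup.mem_top _
      exact (QuotientGroup.eq_one_iff g).2 this
    · obtain ⟨x, hx, β, hβ⟩ := hgv
      obtain ⟨h, hh⟩ := htr v w hv hw
      have hconj : h * x * h⁻¹ ∈ N := (hMn.comap (QuotientGroup.mk' A)).conj_mem (x : G) x.2 h
      refine ⟨⟨_, hconj⟩, fun hm => hx ?_, θ h β, ?_⟩
      · show (x : G) ∈ A
        have hm' := hAn.conj_mem _ (show h * x * h⁻¹ ∈ A from hm) h⁻¹
        simpa [mul_assoc] using hm'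
      have key : ρ (h * x * h⁻¹) (ρ h v) = θ h β • ρ h v := by
        rw [happ, happ, ← happ h⁻¹ h, inv_mul_cancel, map_one]
        show ρ h (π x v) = θ h β • ρ h v
        rw [hβ, hsemi]
      show ρ (h * x * h⁻¹) w = θ h β • w
      rcases hh with e | e
      · rw [← e]; exact key
      · rw [show w = -ρ h v by rw [e, neg_neg], map_neg, key, smul_neg]

end Cfsg.Agent.Lib.Kantor
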