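import Cfsg.Agent.Lib.Kantor.Linear
import Cfsg.Agent.Lib.Perm.Basic
import Cfsg.Agent.S0735
import Cfsg.Agent.Lib.FTClassSize.Basic
import Cfsg.Prelude.Def_Perm

/-!
Kantor's theorem on 2-homogeneous groups which are not doubly transitive, given that groups of odd
order are solvable.
-/

set_option autoImplicit false

namespace Cfsg.Agent.Lib.Kantor

open MulAction Cfsg.Agent.Lib.FTClassSize
open scoped Pointwise

universe u

set_option maxHeartbeats 1000000 in
-- long construction
theorem two_homogeneous_not_two_transitive (hFT : OddSolvable.{u}) {α : Type u} [Fintype α]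
    [DecidableEq α] (G : Subgroup (Equiv.Perm α)) (hne : G ≠ ⊥)
    (h2 : MulAction.IsPretransitive G (Set.powersetCard α 2))
    (hn2 : ¬ MulAction.IsMultiplyPretransitive G α 2) :
    Odd (Nat.card G) ∧ ∃ (p f : ℕ) (_ : Fact p.Prime), p ≠ 2 ∧ Fintype.card α = p ^ f ∧ p ^ f % 4 = 3 ∧
      ∃ e : α ≃ GaloisField p f,
        (∀ g : G, e.symm.trans (((g : Equiv.Perm α)).trans e) ∈ Cfsg.semiaffineGroup (GaloisField p f)) ∧
        ∀ b : GaloisField p f, ∃ g : G, ∀ x : α, e ((g : Equiv.Perm α) x) = e x + b := by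
  classical
  have hα : 3 ≤ Fintype.card α := by
    by_contra hlt
    obtain ⟨⟨g, hg⟩, hg1⟩ : ∃ g : G, g ≠ 1 := by
      obtain ⟨g, hg, hg1⟩ := (Subgroup.bot_or_exists_ne_one G).resolve_left hne
      exact ⟨⟨g, hg⟩, fun h => hg1 (congrArg Subtype.val h)⟩
    obtain ⟨a, ha⟩ : ∃ a, g a ≠ a := by
      by_contra h
      push Not at h
      exact hg1 (Subtype.ext (Equiv.ext h))
    have huniv : ∀ x : α, x = a ∨ x = g a := by
      intro x
      by_contra hx
      push Not at hx
      have : ({x, a, g a} : Finset α).card ≤ Fintype.card α := Finset.card_le_univ _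
      rw [Finset.card_eq_three.2 ⟨x, a, g a, hx.1, hx.2, Ne.symm ha, rfl⟩] at this
      omega
    have hga : g (g a) = a :=
      (huniv (g (g a))).resolve_right fun h => ha (g.injective h)
    refine hn2 (MulAction.is_two_pretransitive_iff.2 fun {x y z w} hxy hzw => ?_)
    rcases huniv x with rfl | rfl <;> rcases huniv y with rfl | rfl <;>
      rcases huniv z with rfl | rfl <;> rcases huniv w with rfl | rfl <;>
      first
        | exact absurd rfl hxy
        | exact absurd rfl hzw
        | exact ⟨1, one_smul _ _, one_smul _ _⟩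
        | exact ⟨⟨g, hg⟩, rfl, hga⟩
        | exact ⟨⟨g, hg⟩, hga, rfl⟩
  have hS := Cfsg.Agent.S0735.result G h2 hα
  haveI hprim : MulAction.IsPreprimitive G α := hS.2 hne
  have hodd : Odd (Nat.card G) := by
    rw [← Nat.not_even_iff_odd]
    exact fun h => hn2 (hS.1 h)
  refine ⟨hodd, ?_⟩
  haveI := hFT G hodd
  haveI : Nontrivial G := (Subgroup.nontrivial_iff_ne_bot G).2 hne
  obtain ⟨N, hNn, hN, hNmin⟩ := Cores.MinNormal.exists_minimal (G := G)
  obtain ⟨hNc, p, hp, hNp⟩ := Cores.MinNormal.elementary_of_solvable hN hNmin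
  haveI := Fact.mk hp
  haveI hNt : IsPretransitive N α := Perm.Basic.isPretransitive_of_normal_ne_bot N hN
  haveI : Nonempty α := Fintype.card_pos_iff.1 (by omega)
  obtain ⟨a⟩ := (inferInstance : Nonempty α)
  have hreg : stabilizer N a = ⊥ := Perm.Basic.stabilizer_eq_bot_of_comm_transitive N hNc a
  have hNcard : Nat.card N = Fintype.card α := by
    rw [Perm.Basic.card_eq_of_regular a hreg, Nat.card_eq_fintype_card]
  obtain ⟨f, hf⟩ := IsPGroup.iff_card.1 (Cores.MinNormal.isPGroup_of_pow_eq_one hNp)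
  have hp2 : p ≠ 2 := by
    rintro rfl
    obtain ⟨n, hn, hn1⟩ := (Subgroup.bot_or_exists_ne_one N).resolve_left hN
    exact (Nat.not_even_iff_odd.2 hodd) (even_iff_two_dvd.2
      (orderOf_eq_prime (hNp n hn) hn1 ▸ orderOf_dvd_natCard n))
  have hcardα : Fintype.card α = p ^ f := hNcard ▸ hf
  have hmod : p ^ f % 4 = 3 := by
    haveI := h2
    obtain ⟨s⟩ : Nonempty (Set.powersetCard α 2) := by
      obtain ⟨b, hb⟩ := Fintype.exists_ne_of_one_lt_card (by omega) a
      exact ⟨⟨{a, b}, by simp [Ne.symm hb]⟩⟩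
    have h1 : Nat.card (Set.powersetCard α 2) ∣ Nat.card G := by
      rw [← MulAction.index_stabilizer_of_transitive G s]
      exact Subgroup.index_dvd_card _
    rw [Set.powersetCard.card, Nat.card_eq_fintype_card, hcardα, Nat.choose_two_right] at h1
    have h3 : Odd (p ^ f * (p ^ f - 1) / 2) := hodd.of_dvd_nat h1
    have h4 : Odd (p ^ f) := (hp.odd_of_ne_two hp2).pow
    obtain ⟨k, hk⟩ := h4
    rw [hk, Nat.add_sub_cancel, show (2 * k + 1) * (2 * k) = 2 * ((2 * k + 1) * k) by ring,
      Nat.mul_div_cancel_left _ (by norm_num : 0 < 2), Nat.odd_mul] at h3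
    obtain ⟨-, j, hj⟩ := h3
    omega
  refine ⟨p, f, inferInstance, hp2, hcardα, hmod, ?_⟩
  -- the action of the stabiliser on `N`
  set S := stabilizer G a with hSdef
  haveI : IsMulCommutative N := hNc
  letI : CommGroup N := { (inferInstance : Group N) with mul_comm := fun x y => mul_comm' x y }
  let V := Additive N
  have conjMem : ∀ (h : S) (x : N), (h : G) * x * (h : G)⁻¹ ∈ N := fun h x => hNn.conj_mem x x.2 h
  let conjF : S → N →* N := fun h => MonoidHom.mk' (fun x => ⟨_, conjMem h x⟩) fun x y =>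
    Subtype.ext (show (h : G) * (x * y : N) * (h : G)⁻¹ =
      (h : G) * x * (h : G)⁻¹ * ((h : G) * y * (h : G)⁻¹) by rw [Subgroup.coe_mul]; group)
  let ρ : S →* AddMonoid.End V :=
    { toFun := fun h => MonoidHom.toAdditive (conjF h)
      map_one' := AddMonoidHom.ext fun v => congrArg Additive.ofMul (Subtype.ext
        (show ((1 : S) : G) * (Additive.toMul v : N) * ((1 : S) : G)⁻¹ = (Additive.toMul v : N) by
          rw [Subgroup.coe_one, one_mul, inv_one, mul_one]))
      map_mul' := fun h h' => AddMonoidHom.ext fun v => congrArg Additive.ofMul (Subtype.ext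
        (show ((h * h' : S) : G) * (Additive.toMul v : N) * ((h * h' : S) : G)⁻¹ =
            (h : G) * ((h' : G) * (Additive.toMul v : N) * (h' : G)⁻¹) * (h : G)⁻¹ by
          rw [Subgroup.coe_mul]; group)) }
  have hρval : ∀ (h : S) (x : N),
      ((Additive.toMul (ρ h (Additive.ofMul x)) : N) : G) = (h : G) * x * (h : G)⁻¹ := fun h x => rfl
  have hsmul : ∀ (h : S) (x : N), (h : G) • (x : G) • a =
      (((Additive.toMul (ρ h (Additive.ofMul x)) : N) : G)) • a := by
    intro h x
    rw [hρval, mul_smul, mul_smul, inv_smul_eq_iff.2 (mem_stabilizer_iff.1 h.2).symm]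
  have hnfree : ∀ x y : N, (x : G) • a = (y : G) • a → x = y := fun x y h =>
    (Perm.Basic.smul_bijective_of_regular a hreg).1 h
  have hρinj : Function.Injective ρ := by
    intro h h' e
    refine Subtype.ext (eq_of_smul_eq_smul fun b : α => ?_)
    obtain ⟨x, rfl⟩ := exists_smul_eq N a b
    show (h : G) • (x : G) • a = (h' : G) • (x : G) • a
    rw [hsmul, hsmul, e]
  haveI : Nontrivial V := by
    haveI := (Subgroup.nontrivial_iff_ne_bot N).2 hN
    exact (inferInstance : Nontrivial (Additive N))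
  have hpair : ∀ v w : V, v ≠ 0 → w ≠ 0 → ∃ h : S, ρ h v = w ∨ ρ h v = -w := by
    intro v w hv hw
    obtain ⟨x, rfl⟩ := Additive.ofMul.surjective v
    obtain ⟨y, rfl⟩ := Additive.ofMul.surjective w
    have hxa : (x : G) • a ≠ a := fun h => hv (congrArg Additive.ofMul
      (hnfree x 1 (by rw [h, Subgroup.coe_one, one_smul])))
    have hya : (y : G) • a ≠ a := fun h => hw (congrArg Additive.ofMul
      (hnfree y 1 (by rw [h, Subgroup.coe_one, one_smul])))
    obtain ⟨g, hg⟩ := MulAction.exists_smul_eq G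
      (⟨{a, (x : G) • a}, by simp [Ne.symm hxa]⟩ : Set.powersetCard α 2)
      ⟨{a, (y : G) • a}, by simp [Ne.symm hya]⟩
    have hg' : g • ({a, (x : G) • a} : Finset α) = {a, (y : G) • a} := congrArg Subtype.val hg
    simp only [Finset.smul_finset_insert, Finset.smul_finset_singleton] at hg'
    have h1 : g • a ∈ ({a, (y : G) • a} : Finset α) := by rw [← hg']; simp
    have h3 : g • (x : G) • a ∈ ({a, (y : G) • a} : Finset α) := by rw [← hg']; simp
    have h4 : g • a ≠ g • (x : G) • a := fun h => hxa (MulAction.injective g h).symm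
    simp only [Finset.mem_insert, Finset.mem_singleton] at h1 h3
    rcases h1 with h1 | h1
    · refine ⟨⟨g, h1⟩, Or.inl (congrArg Additive.ofMul (hnfree _ y ?_))⟩
      exact (hsmul ⟨g, h1⟩ x).symm.trans (h3.resolve_left fun h => h4 (h1.trans h.symm))
    · have h5 : g • (x : G) • a = a := h3.resolve_right fun h => h4 (h1.trans h.symm)
      have hh : ((y : G)⁻¹ * g) • a = a := by rw [mul_smul, h1, inv_smul_smul]
      refine ⟨⟨_, hh⟩, Or.inr (congrArg Additive.ofMul (hnfree _ y⁻¹ ?_))⟩
      refine (hsmul ⟨_, hh⟩ x).symm.trans ?_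
      show ((y : G)⁻¹ * g) • (x : G) • a = ((y⁻¹ : N) : G) • a
      rw [mul_smul, h5, Subgroup.coe_inv]
  obtain ⟨e, he⟩ := semilinear_of_halfTransitive (hodd.of_dvd_nat (Subgroup.card_subgroup_dvd_card S))
    p f hp2 (show Nat.card (Additive N) = p ^ f from hf)
    (fun v => by
      obtain ⟨x, rfl⟩ := Additive.ofMul.surjective v
      exact congrArg Additive.ofMul (Subtype.ext (hNp x x.2) : x ^ p = 1))
    ρ hρinj hpair
  let E : α ≃ GaloisField p f :=
    ((Perm.Basic.regularEquiv a hreg).symm.trans Additive.ofMul).trans e.toEquiv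
  have hE : ∀ x : N, E ((x : G) • a) = e (Additive.ofMul x) := by
    intro x
    show e (Additive.ofMul ((Perm.Basic.regularEquiv a hreg).symm ((x : G) • a))) = _
    congr 2
    exact (Equiv.symm_apply_eq _).2 rfl
  refine ⟨E, fun g => ?_, fun b => ?_⟩
  · obtain ⟨n, hn⟩ := exists_smul_eq N a ((g : G) • a)
    have hh : ((n : G)⁻¹ * g) • a = a := by
      rw [mul_smul, inv_smul_eq_iff]; exact hn.symm
    obtain ⟨c, φ, hc⟩ := he ⟨_, hh⟩
    refine ⟨c, e (Additive.ofMul n), φ, fun z => ?_⟩
    obtain ⟨y, rfl⟩ := E.surjective z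
    obtain ⟨x, rfl⟩ := exists_smul_eq N a y
    show E (g • E.symm (E ((x : G) • a))) = c * φ (E ((x : G) • a)) + e (Additive.ofMul n)
    rw [Equiv.symm_apply_apply, hE, ← hc, add_comm, ← map_add]
    have h1 : g • (x : G) • a = ((n * Additive.toMul (ρ ⟨_, hh⟩ (Additive.ofMul x)) : N) : G) • a := by
      rw [Subgroup.coe_mul, mul_smul, ← hsmul ⟨_, hh⟩ x, ← mul_smul (n : G), mul_inv_cancel_left]
    rw [h1, hE]
    rfl
  · obtain ⟨v, rfl⟩ := e.surjective b
    obtain ⟨n, rfl⟩ := Additive.ofMul.surjective v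
    refine ⟨(n : G), fun y => ?_⟩
    obtain ⟨x, rfl⟩ := exists_smul_eq N a y
    show E ((n : G) • (x : G) • a) = E ((x : G) • a) + _
    rw [← mul_smul, ← Subgroup.coe_mul, hE, hE, add_comm, ← map_add]
    rfl

end Cfsg.Agent.Lib.Kantor
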